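import Mathlib
import Groth.Agent.RegLocal.Basic
import Groth.Agent.GorLib.TopHull
import Groth.Agent.GorLib.Ring
import Groth.Agent.GorLib.CM
import Groth.Agent.InjHullLib.Gorenstein
import Groth.Agent.InjHullLib.Matlis
import Groth.Agent.InjHullLib.Noetherian

/-! Torsion modules fixed by Frobenius over regular local rings are injective. -/

set_option autoImplicit false

noncomputable section

universe u

open TensorProduct IsLocalRing

namespace Groth.Agent.FrobInjLib

section Flat

variable {R : Type u} [CommRing R] {S : Type u} [CommRing S] [Algebra R S] [Module.Flat R S]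
  {M : Type u} [AddCommGroup M] [Module R M] {M' : Type u} [AddCommGroup M'] [Module S M']

/-- Free torsion submodules are transported along flat base change. -/
lemma torsion_baseChange (e : S ⊗[R] M ≃ₗ[S] M') {n : ℕ} (x : Fin n → R) {ι : Type u}
    (v : Submodule.torsionBySet R M (Ideal.span (Set.range x) : Set R) ≃ₗ[R]
      (ι →₀ R ⧸ Ideal.span (Set.range x))) :
    Nonempty (Submodule.torsionBySet S M' ((Ideal.span (Set.range x)).map (algebraMap R S) : Set S) ≃ₗ[S]
      (ι →₀ S ⧸ (Ideal.span (Set.range x)).map (algebraMap R S))) := by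
  classical
  set J := Ideal.span (Set.range x)
  let T := Submodule.torsionBySet R M (J : Set R)
  let g : M →ₗ[R] (Fin n → M) := LinearMap.pi fun i => x i • LinearMap.id
  have hex : Function.Exact T.subtype g := fun m => by
    refine ⟨fun h => ⟨⟨m, ?_⟩, rfl⟩, ?_⟩
    · refine (Submodule.mem_torsionBySet_iff _ _).2 fun a => ?_
      have ha : (a : R) ∈ Submodule.span R (Set.range x) := a.2
      obtain ⟨c, hc⟩ := (Submodule.mem_span_range_iff_exists_fun R).1 ha
      rw [← hc, Finset.sum_smul]
      refine Finset.sum_eq_zero fun i _ => ?_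
      rw [smul_eq_mul, mul_smul]
      exact (congrArg (c i • ·) (congrFun h i)).trans (smul_zero _)
    · rintro ⟨t, rfl⟩
      funext i
      exact (Submodule.mem_torsionBySet_iff _ _).1 t.2 ⟨x i, Ideal.subset_span ⟨i, rfl⟩⟩
  let incl : S ⊗[R] T →ₗ[S] S ⊗[R] M := T.subtype.baseChange S
  have hincl : Function.Injective incl :=
    Module.Flat.lTensor_preserves_injective_linearMap T.subtype Subtype.val_injective
  have hpi : ∀ (z : S ⊗[R] M) (i : Fin n),
      TensorProduct.piRight R S S (fun _ : Fin n => M) (g.lTensor S z) i = algebraMap R S (x i) • z := by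
    intro z i
    induction z with
    | zero => simp
    | add a b ha hb => rw [map_add, map_add, Pi.add_apply, ha, hb, smul_add]
    | tmul s m => simp [g, TensorProduct.smul_tmul', Algebra.smul_def]
  have hrange : LinearMap.range (e.toLinearMap ∘ₗ incl) =
      Submodule.torsionBySet S M' (J.map (algebraMap R S) : Set S) := by
    refine le_antisymm ?_ fun m hm => ?_
    · rintro _ ⟨z, rfl⟩
      refine (Submodule.mem_torsionBySet_iff _ _).2 fun a => ?_
      have key : ∀ b ∈ J.map (algebraMap R S), b • incl z = 0 := fun b hb => by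
        induction hb using Submodule.span_induction with
        | mem b hb =>
          obtain ⟨c, hc, rfl⟩ := hb
          induction z with
          | zero => simp
          | add a b ha hb => rw [map_add, smul_add, ha, hb, add_zero]
          | tmul s t =>
            rw [LinearMap.baseChange_tmul, algebraMap_smul, ← TensorProduct.tmul_smul,
              show c • T.subtype t = 0 from (Submodule.mem_torsionBySet_iff _ _).1 t.2 ⟨c, hc⟩, tmul_zero]
        | zero => exact zero_smul _ _
        | add b c _ _ hb hc => rw [add_smul, hb, hc, add_zero]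
        | smul d b _ hb => rw [smul_eq_mul, mul_smul, hb, smul_zero]
      rw [LinearMap.comp_apply, LinearEquiv.coe_coe, ← map_smul, key a a.2, map_zero]
    · obtain ⟨z, rfl⟩ := e.surjective m
      have hz : g.lTensor S z = 0 := by
        refine (TensorProduct.piRight R S S (fun _ : Fin n => M)).injective ?_
        funext i
        rw [hpi, map_zero, Pi.zero_apply]
        refine e.injective ?_
        rw [map_smul, map_zero]
        exact (Submodule.mem_torsionBySet_iff _ _).1 hm
          ⟨_, Ideal.mem_map_of_mem _ (Ideal.subset_span ⟨i, rfl⟩)⟩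
      obtain ⟨w, hw⟩ := (Module.Flat.lTensor_exact S hex z).1 hz
      exact ⟨w, congrArg e hw⟩
  refine ⟨(LinearEquiv.ofEq _ _ hrange).symm.trans <|
    (LinearEquiv.ofInjective (e.toLinearMap ∘ₗ incl) (e.injective.comp hincl)).symm.trans <|
    (LinearEquiv.baseChange R S _ _ v).trans <| (TensorProduct.finsuppRight R S S (R ⧸ J) ι).trans
    (Finsupp.mapRange.linearEquiv (Algebra.TensorProduct.quotIdealMapEquivTensorQuot S J).symm.toLinearEquiv)⟩

end Flat

variable {R : Type u} [CommRing R]

/-- Torsion-free-over-self-injective pieces give Baer's criterion. -/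
lemma exists_extension {J : Ideal R} [IsNoetherianRing R] (hinj : Module.Injective (R ⧸ J) (R ⧸ J))
    (ι : Type u) {K : Ideal R} (hJK : J ≤ K) (N : Submodule R (R ⧸ K)) (g : N →ₗ[R] (ι →₀ R ⧸ J)) :
    ∃ g' : (R ⧸ K) →ₗ[R] (ι →₀ R ⧸ J), g' ∘ₗ N.subtype = g := by
  classical
  let q : (R ⧸ J) →ₗ[R] (R ⧸ K) := Submodule.mapQ J K LinearMap.id hJK
  have hsurj : Function.Surjective (algebraMap R (R ⧸ J)) := Ideal.Quotient.mk_surjective
  let N' : Ideal (R ⧸ J) :=
    { carrier := N.comap q
      add_mem' := fun ha hb => add_mem (s := N.comap q) ha hb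
      zero_mem' := zero_mem (N.comap q)
      smul_mem' := fun c a ha => by
        obtain ⟨r, rfl⟩ := hsurj c
        rw [smul_eq_mul, ← Algebra.smul_def]
        exact (N.comap q).smul_mem r ha }
  let φ₀ : N' →ₗ[R] (ι →₀ R ⧸ J) := g ∘ₗ
    ((q ∘ₗ (N'.subtype.restrictScalars R)).codRestrict N fun a => a.2)
  let φ := φ₀.extendScalarsOfSurjective hsurj
  haveI := InjHullLib.injective_directSum (R := R ⧸ J) (fun _ : ι => R ⧸ J) fun _ => hinj
  haveI : Module.Injective (R ⧸ J) (ι →₀ R ⧸ J) := by
    let e := finsuppLEquivDirectSum (R ⧸ J) (R ⧸ J) ι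
    refine InjHullLib.injective_of_retract e.toLinearMap e.symm.toLinearMap ?_
    ext z; simp
  obtain ⟨h, hh⟩ := Module.Injective.out (R := R ⧸ J) N'.subtype Subtype.val_injective φ
  -- the element `h 1` is killed by `K`
  have hK : ∀ r ∈ K, r • h 1 = 0 := fun r hr => by
    have hq : q (Ideal.Quotient.mk J r) = 0 := (Submodule.Quotient.mk_eq_zero _).2 hr
    have hmem : Ideal.Quotient.mk J r ∈ N' := show q _ ∈ N by rw [hq]; exact zero_mem N
    rw [← algebraMap_smul (R ⧸ J), ← map_smul, smul_eq_mul, mul_one]
    refine (hh ⟨_, hmem⟩).trans ?_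
    show g _ = 0
    rw [show ((q ∘ₗ (N'.subtype.restrictScalars R)).codRestrict N fun a => a.2) ⟨_, hmem⟩ = 0 from
      Subtype.ext hq, map_zero]
  refine ⟨Submodule.liftQ K (LinearMap.toSpanSingleton R _ (h 1)) fun r hr => hK r hr, ?_⟩
  refine LinearMap.ext fun ⟨a, ha⟩ => ?_
  obtain ⟨r, rfl⟩ := Submodule.Quotient.mk_surjective _ a
  have hmem : Ideal.Quotient.mk J r ∈ N' := ha
  show r • h 1 = g ⟨Submodule.Quotient.mk r, ha⟩
  rw [← algebraMap_smul (R ⧸ J), ← map_smul, smul_eq_mul, mul_one]
  exact hh ⟨_, hmem⟩

variable (p : ℕ) [Fact p.Prime] [IsRegularLocalRing R] [CharP R p]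

/-- The Frobenius power of the maximal ideal. -/
def bracket (n : ℕ) : Ideal R :=
  Ideal.span (Set.range fun i => (RegLocal.exists_generators R).choose i ^ p ^ n)

lemma bracket_zero : bracket (R := R) p 0 = maximalIdeal R := by
  simp only [bracket, pow_zero, pow_one]
  exact (RegLocal.exists_generators R).choose_spec

lemma bracket_succ (n : ℕ) : bracket (R := R) p (n + 1) = (bracket (R := R) p n).map (frobenius R p) := by
  rw [bracket, bracket, Ideal.map_span]
  congr 1
  ext y
  simp [frobenius_def, ← pow_mul, pow_succ]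

lemma bracket_le_pow {n k : ℕ} (h : k ≤ p ^ n) : bracket (R := R) p n ≤ maximalIdeal R ^ k :=
  Ideal.span_le.2 (Set.range_subset_iff.2 fun i => Ideal.pow_le_pow_right h (Ideal.pow_mem_pow
    (show (RegLocal.exists_generators R).choose i ∈ maximalIdeal R from
      (RegLocal.exists_generators R).choose_spec.le (Ideal.subset_span ⟨i, rfl⟩)) _))

lemma exists_pow_le_bracket (n : ℕ) : ∃ N, maximalIdeal R ^ N ≤ bracket (R := R) p n := by
  refine Ideal.exists_pow_le_of_le_radical_of_fg ?_ (maximalIdeal R).fg_of_isNoetherianRing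
  conv_lhs => rw [← (RegLocal.exists_generators R).choose_spec]
  exact Ideal.span_le.2 (Set.range_subset_iff.2 fun i => ⟨p ^ n, Ideal.subset_span ⟨i, rfl⟩⟩)

/-- The quotient by a Frobenius power of the maximal ideal is self-injective. -/
lemma selfInjective_bracket (hflat : (frobenius R p).Flat) (n : ℕ) :
    Module.Injective (R ⧸ bracket (R := R) p n) (R ⧸ bracket (R := R) p n) := by
  haveI : ExpChar R p := ExpChar.prime Fact.out
  set x := (RegLocal.exists_generators R).choose
  have hd : ringKrullDim R = (maximalIdeal R).spanFinrank := (IsRegularLocalRing.spanFinrank_maximalIdeal (R := R)).symm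
  have hreg := (RegLocal.isRegular_of_generators R hd x (RegLocal.exists_generators R).choose_spec).toIsWeaklyRegular
  have hpow : ∀ m : ℕ, RingTheory.Sequence.IsWeaklyRegular R (List.ofFn fun i => x i ^ p ^ m) := by
    intro m
    induction m with
    | zero => simpa using hreg
    | succ m ih =>
      letI alg : Algebra R R := (frobenius R p).toAlgebra
      have := @RingTheory.Sequence.IsWeaklyRegular.of_flat R R _ _ alg hflat _ ih
      convert this using 1
      rw [List.map_ofFn]
      congr 1
      funext i
      show x i ^ p ^ (m + 1) = frobenius R p (x i ^ p ^ m)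
      rw [frobenius_def, ← pow_mul, pow_succ]
  have hne : bracket (R := R) p n ≠ ⊤ := ne_top_of_le_ne_top (maximalIdeal.isMaximal R).ne_top
    ((bracket_le_pow p (Nat.one_le_pow _ _ (Nat.Prime.pos Fact.out))).trans (pow_one _).le)
  haveI := RegLocal.isLocalRing_quot hne
  have heq : Ideal.ofList (List.ofFn fun i => x i ^ p ^ n) = bracket (R := R) p n := by
    show Ideal.span _ = _
    congr 1; ext y; simp [List.mem_ofFn, x]
  have hG : LocCoh.IsGorensteinLocalRing (R ⧸ bracket (R := R) p n) := by
    haveI : IsLocalRing (R ⧸ Ideal.ofList (List.ofFn fun i => x i ^ p ^ n)) :=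
      RegLocal.isLocalRing_quot (by rwa [heq])
    refine GorLib.gorenstein_of_ringEquiv (Ideal.quotEquivOfEq heq)
      (GorLib.gorenstein_quot_seq _ R (GorLib.gorensteinLocal_of_regular R) _ rfl (fun r hr => ?_) (hpow n))
    obtain ⟨i, rfl⟩ := List.mem_ofFn.1 hr
    exact Ideal.pow_mem_of_mem _ ((RegLocal.exists_generators R).choose_spec.le (Ideal.subset_span ⟨i, rfl⟩)) _
      (pow_pos (Nat.Prime.pos Fact.out) _)
  obtain ⟨N, hN⟩ := exists_pow_le_bracket (R := R) p n
  haveI : IsArtinianRing (R ⧸ bracket (R := R) p n) := by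
    haveI : IsArtinian R (R ⧸ bracket (R := R) p n) :=
      ((isFiniteLength_iff_isNoetherian_isArtinian).1 (InjHullLib.isFiniteLength_quot hN)).2
    exact isArtinian_of_tower R (inferInstance : IsArtinian R (R ⧸ bracket (R := R) p n))
  obtain ⟨j, hj⟩ := InjHullLib.exists_residueField_embedding (R := R ⧸ bracket (R := R) p n)
  exact GorLib.selfInjective_of_embedding hG hj

end Groth.Agent.FrobInjLib
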